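import Mathlib

/-!
An unramified place cannot have all conjugate embeddings congruent unless the degree is one.
-/

set_option autoImplicit false
universe u

open NumberField IsDedekindDomain
open scoped Pointwise

namespace H1AffGal

variable {K L N : Type u} [Field K] [NumberField K] [Field L] [NumberField L] [Algebra K L]
  [Field N] [NumberField N] [Algebra K N] [IsGalois K N]

/-- Commutators of the decomposition group act trivially on the residue field. -/
theorem commutator_sub_mem (w : HeightOneSpectrum (𝓞 K)) (W : Ideal (𝓞 N)) [W.IsMaximal]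
    [W.LiesOver w.asIdeal] (hW0 : W ≠ ⊥) {g h : N ≃ₐ[K] N} (hg : g • W = W) (hh : h • W = W)
    (y : 𝓞 N) : (h * g * h⁻¹ * g⁻¹) • y - y ∈ W := by
  haveI := w.isMaximal
  letI := Ideal.Quotient.field W
  letI := Ideal.Quotient.field w.asIdeal
  haveI : Finite (𝓞 N ⧸ W) := Ideal.finiteQuotientOfFreeOfNeBot W hW0
  let Φ := Ideal.Quotient.stabilizerHom W w.asIdeal (N ≃ₐ[K] N)
  let g' : MulAction.stabilizer (N ≃ₐ[K] N) W := ⟨g, hg⟩
  let h' : MulAction.stabilizer (N ≃ₐ[K] N) W := ⟨h, hh⟩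
  have hcomm : ∀ a b : (𝓞 N ⧸ W) ≃ₐ[𝓞 K ⧸ w.asIdeal] (𝓞 N ⧸ W), a * b = b * a := by
    haveI : IsCyclic ((𝓞 N ⧸ W) ≃ₐ[𝓞 K ⧸ w.asIdeal] (𝓞 N ⧸ W)) := inferInstance
    letI := IsCyclic.commGroup (α := (𝓞 N ⧸ W) ≃ₐ[𝓞 K ⧸ w.asIdeal] (𝓞 N ⧸ W))
    exact mul_comm
  have h1 : Φ (h' * g' * h'⁻¹ * g'⁻¹) = 1 := by
    rw [map_mul, map_mul, map_mul, map_inv, map_inv, hcomm (Φ h') (Φ g'), mul_inv_cancel_right,
      mul_inv_cancel]
  have h2 := AlgEquiv.congr_fun h1 (Ideal.Quotient.mk W y)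
  exact Ideal.Quotient.eq.mp h2

theorem finrank_eq_one_of_congr (w : HeightOneSpectrum (𝓞 K)) (W : Ideal (𝓞 N)) [W.IsMaximal]
    [W.LiesOver w.asIdeal] (hW0 : W ≠ ⊥) (ψ₀ : L →ₐ[K] N)
    (hcong : ∀ φ : L →ₐ[K] N, ∀ x : 𝓞 L,
      RingOfIntegers.mapAlgHom φ x - RingOfIntegers.mapAlgHom ψ₀ x ∈ W)
    (hun : ∀ P : Ideal (𝓞 L), P.IsPrime → P.LiesOver w.asIdeal →
      P.ramificationIdx (𝓞 K) = 1) :
    Module.finrank K L = 1 := by
  classical
  haveI := w.isMaximal
  set j := RingOfIntegers.mapAlgHom (k := K) ψ₀ with hj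
  set p := w.asIdeal with hp
  -- residues come from below
  have hres : ∀ x : 𝓞 L, ∃ a : 𝓞 K, j x - algebraMap (𝓞 K) (𝓞 N) a ∈ W := by
    intro x
    letI := Ideal.Quotient.field W
    letI := Ideal.Quotient.field w.asIdeal
    haveI : Finite (𝓞 N ⧸ W) := Ideal.finiteQuotientOfFreeOfNeBot W hW0
    haveI : Finite (𝓞 K ⧸ w.asIdeal) := Ideal.finiteQuotientOfFreeOfNeBot w.asIdeal w.ne_bot
    have hfix : ∀ σ : (𝓞 N ⧸ W) ≃ₐ[𝓞 K ⧸ w.asIdeal] (𝓞 N ⧸ W),
        σ (Ideal.Quotient.mk W (j x)) = Ideal.Quotient.mk W (j x) := by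
      intro σ
      obtain ⟨g, rfl⟩ := Ideal.Quotient.stabilizerHom_surjective (N ≃ₐ[K] N) w.asIdeal W σ
      exact Ideal.Quotient.eq.mpr (hcong (g.1.toAlgHom.comp ψ₀) x)
    obtain ⟨a, ha⟩ := (IsGalois.mem_range_algebraMap_iff_fixed _).mpr hfix
    obtain ⟨a, rfl⟩ := Ideal.Quotient.mk_surjective a
    exact ⟨a, Ideal.Quotient.eq.mp ha.symm⟩
  -- the contracted prime
  set P : Ideal (𝓞 L) := W.comap j with hP
  haveI : P.IsPrime := Ideal.IsPrime.comap _
  haveI hPp : P.LiesOver p := ⟨by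
    ext a
    rw [Ideal.mem_of_liesOver W p a, Ideal.under_def, Ideal.mem_comap, hP, Ideal.mem_comap,
      AlgHom.commutes]⟩
  -- it is the only prime over `p`
  have huniq : ∀ Q : Ideal (𝓞 L), Q.IsPrime → Q.LiesOver p → Q = P := by
    intro Q hQ hQp
    letI : Algebra (𝓞 L) (𝓞 N) := j.toRingHom.toAlgebra
    haveI : IsScalarTower (𝓞 K) (𝓞 L) (𝓞 N) :=
      IsScalarTower.of_algebraMap_eq fun a => (j.commutes a).symm
    haveI : FaithfulSMul (𝓞 L) (𝓞 N) := (faithfulSMul_iff_algebraMap_injective _ _).mpr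
      (fun a b h => RingOfIntegers.coe_injective (ψ₀.injective (congrArg RingOfIntegers.val h)))
    haveI : Algebra.IsIntegral (𝓞 L) (𝓞 N) := Algebra.IsIntegral.tower_top (𝓞 K)
    obtain ⟨Q', hQ'⟩ := (Ideal.nonempty_primesOver (S := 𝓞 N) Q).some
    haveI := hQ'.1
    haveI := hQ'.2
    haveI : Q'.LiesOver p := Ideal.LiesOver.trans Q' Q p
    obtain ⟨g, hg⟩ := Algebra.IsInvariant.exists_smul_of_under_eq (𝓞 K) (𝓞 N) (N ≃ₐ[K] N) Q' W
      ((Ideal.over_def Q' p).symm.trans (Ideal.over_def W p))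
    ext x
    rw [Ideal.mem_of_liesOver Q' Q x, hP, Ideal.mem_comap]
    show j x ∈ Q' ↔ j x ∈ W
    rw [← Ideal.smul_mem_pointwise_smul_iff (a := g), ← hg]
    have : g • j x - j x ∈ W := hcong (g.toAlgHom.comp ψ₀) x
    exact ⟨fun h => by simpa using sub_mem h this, fun h => by simpa using add_mem this h⟩
  -- unramified: the prime is the extension of `p`
  set J : Ideal (𝓞 L) := p.map (algebraMap (𝓞 K) (𝓞 L)) with hJ
  have hJ0 : J ≠ ⊥ := Ideal.map_ne_bot_of_ne_bot w.ne_bot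
  open UniqueFactorizationMonoid in
  have hPJ : P ≤ J := by
    have hall : ∀ Q ∈ normalizedFactors J, Q = P := by
      intro Q hQ
      have hQpr : Q.IsPrime := Ideal.isPrime_of_prime (prime_of_normalized_factor Q hQ)
      refine huniq Q hQpr ⟨(w.isMaximal.eq_of_le ?_ (Ideal.map_le_iff_le_comap.1
        (Ideal.le_of_dvd (dvd_of_mem_normalizedFactors hQ))))⟩
      exact (hQpr.comap (algebraMap (𝓞 K) (𝓞 L))).ne_top
    have hfac : normalizedFactors J = Multiset.replicate ((normalizedFactors J).count P) P := by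
      refine Multiset.eq_replicate.mpr ⟨?_, hall⟩
      rw [Multiset.count_eq_card.mpr fun Q hQ => (hall Q hQ).symm]
    have hcount : (normalizedFactors J).count P = 1 := by
      rw [← Ideal.IsDedekindDomain.ramificationIdx_eq_normalizedFactors_count p P hJ0,
        hun P inferInstance hPp]
    rw [← Ideal.prod_normalizedFactors_eq_self hJ0, hfac, hcount]
    simp
  -- so the fibre has rank one
  have hrank := Ideal.finrank_quotient_map (p := p) (S := 𝓞 L) K L
  refine le_antisymm ?_ Module.finrank_pos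
  rw [← hrank]
  refine finrank_le_one (Ideal.Quotient.mk _ 1) fun y => ?_
  obtain ⟨x, rfl⟩ := Ideal.Quotient.mk_surjective y
  obtain ⟨a, ha⟩ := hres x
  refine ⟨Ideal.Quotient.mk p a, ?_⟩
  rw [Algebra.smul_def, map_one, mul_one]
  refine (Ideal.Quotient.eq.mpr (hPJ ?_)).symm
  rw [hP, Ideal.mem_comap, map_sub, AlgHom.commutes]
  exact ha

end H1AffGal
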