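import Mathlib
import Groth.Agent.NFApprox.Hensel
import Groth.Agent.NFApprox.Strong

/-!
A subfield fixed by a decomposition group embeds in the completion.
-/

set_option autoImplicit false
universe u

open NumberField IsDedekindDomain Polynomial
open scoped Pointwise

namespace H1AffGal

variable {K N F : Type u} [Field K] [NumberField K] [Field N] [NumberField N] [Algebra K N]
  [IsGalois K N] [Field F] [Algebra K F] [FiniteDimensional K F]

/-- A subfield fixed by the decomposition group has an element congruent to `1` at the prime whose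
other conjugates lie in the prime. -/
theorem exists_separating (ψ : F →ₐ[K] N) (W : Ideal (𝓞 N)) [W.IsMaximal]
    (hD : ∀ g : N ≃ₐ[K] N, g • W = W → ∀ x, g (ψ x) = ψ x) :
    ∃ θ : 𝓞 N, θ - 1 ∈ W ∧ (θ : N) ∈ ψ.fieldRange ∧
      (∀ g : N ≃ₐ[K] N, g (θ : N) ≠ θ → g • θ ∈ W) ∧
      (∀ g : N ≃ₐ[K] N, g (θ : N) = θ → ∀ x, g (ψ x) = ψ x) := by
  classical
  set H : Subgroup (N ≃ₐ[K] N) := ψ.fieldRange.fixingSubgroup with hH
  have hmem : ∀ g : N ≃ₐ[K] N, g ∈ H ↔ ∀ x, g (ψ x) = ψ x := by
    intro g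
    rw [hH, IntermediateField.mem_fixingSubgroup_iff]
    exact ⟨fun h x => h _ ⟨x, rfl⟩, fun h y ⟨x, hx⟩ => hx ▸ h x⟩
  -- an element congruent to one at `W` and lying in all other conjugates
  set S : Finset (Ideal (𝓞 N)) :=
    (Finset.univ.image fun g : N ≃ₐ[K] N => g • W).filter fun P => P ≠ W with hS
  obtain ⟨z, hz1, hz0⟩ : ∃ z : 𝓞 N, z - 1 ∈ W ∧ ∀ P ∈ S, z ∈ P := by
    have hnle : ¬ S.inf id ≤ W := by
      intro h
      obtain ⟨P, hP, hPW⟩ := (Ideal.IsPrime.inf_le' inferInstance).mp h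
      obtain ⟨g, -, rfl⟩ := Finset.mem_image.mp (Finset.mem_filter.mp hP).1
      have : (g • W).IsMaximal := by
        rw [Ideal.pointwise_smul_eq_comap]
        exact Ideal.comap_isMaximal_of_surjective _ (MulSemiringAction.toRingAut _ _ g⁻¹).surjective
      exact (Finset.mem_filter.mp hP).2
        (this.eq_of_le (Ideal.IsMaximal.ne_top inferInstance) hPW)
    obtain ⟨a, ha, haW⟩ := SetLike.not_le_iff_exists.mp hnle
    letI := Ideal.Quotient.field W
    obtain ⟨b, hb⟩ := Ideal.Quotient.mk_surjective ((Ideal.Quotient.mk W a)⁻¹)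
    refine ⟨a * b, ?_, fun P hP => Ideal.mul_mem_right _ _ ?_⟩
    · rw [← Ideal.Quotient.eq, map_mul, hb, map_one, mul_inv_cancel₀]
      exact fun h => haW (Ideal.Quotient.eq_zero_iff_mem.mp h)
    · exact (Finset.inf_le hP : S.inf id ≤ P) ha
  set θ : 𝓞 N := 1 - ∏ h : H, (1 - (h : N ≃ₐ[K] N) • z) with hθ
  have hfix : ∀ k ∈ H, k • θ = θ := by
    intro k hk
    have hm : k • (∏ h : H, (1 - (h : N ≃ₐ[K] N) • z)) = ∏ h : H, (1 - (h : N ≃ₐ[K] N) • z) := by
      rw [Finset.smul_prod']
      refine (Fintype.prod_equiv (Equiv.mulLeft (⟨k, hk⟩ : H)) _ _ fun h => ?_)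
      rw [smul_sub, smul_one, ← mul_smul]
      rfl
    rw [hθ, smul_sub, smul_one, hm]
  have hθ1 : θ - 1 ∈ W := by
    rw [hθ, sub_right_comm, sub_self, zero_sub, neg_mem_iff]
    refine Ideal.mem_of_dvd _ (Finset.dvd_prod_of_mem _ (Finset.mem_univ (1 : H))) ?_
    rw [OneMemClass.coe_one, one_smul]
    exact neg_sub z 1 ▸ neg_mem hz1
  have hθ0 : ∀ g : N ≃ₐ[K] N, g ∉ H → g • θ ∈ W := by
    intro g hg
    rw [hθ, smul_sub, smul_one, Finset.smul_prod', ← Ideal.Quotient.eq, map_one, map_prod]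
    refine (Finset.prod_eq_one fun h _ => ?_).symm
    rw [smul_sub, smul_one, map_sub, map_one, sub_eq_self, Ideal.Quotient.eq_zero_iff_mem,
      ← mul_smul, ← inv_inv (g * (h : N ≃ₐ[K] N)), ← Ideal.mem_pointwise_smul_iff_inv_smul_mem]
    refine hz0 _ (Finset.mem_filter.mpr ⟨Finset.mem_image.mpr ⟨_, Finset.mem_univ _, rfl⟩, fun e => ?_⟩)
    apply hg
    have e' : (g * (h : N ≃ₐ[K] N)) • W = W := by
      conv_lhs => rw [← e, smul_smul, mul_inv_cancel, one_smul]
    have hgh : g * (h : N ≃ₐ[K] N) ∈ H := (hmem _).mpr (hD _ e')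
    exact (Subgroup.mul_mem_cancel_right H h.2).mp hgh
  have hcoe : ∀ g : N ≃ₐ[K] N, ((g • θ : 𝓞 N) : N) = g θ := fun g => rfl
  refine ⟨θ, hθ1, ?_, fun g hg => hθ0 g fun h => hg ?_, fun g hg => (hmem g).mp ?_⟩
  · have : (θ : N) ∈ IntermediateField.fixedField H := fun ⟨g, hg⟩ => by
      show g (θ : N) = θ
      rw [← hcoe, hfix g hg]
    rwa [hH, IsGalois.fixedField_fixingSubgroup] at this
  · rw [← hcoe, hfix g h]
  · by_contra hgH
    have h1 : θ ∈ W := by
      have h2 : g • θ = θ := RingOfIntegers.coe_injective hg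
      exact h2 ▸ hθ0 g hgH
    exact (Ideal.IsMaximal.ne_top ‹_›) ((Ideal.eq_top_iff_one W).mpr (by
      have := sub_mem h1 hθ1
      simpa using this))

/-- A subfield fixed by the decomposition group embeds in the completion below. -/
theorem exists_algHom_completion (ψ : F →ₐ[K] N) (w : HeightOneSpectrum (𝓞 K))
    (W : Ideal (𝓞 N)) [W.IsMaximal] [W.LiesOver w.asIdeal]
    (hD : ∀ g : N ≃ₐ[K] N, g • W = W → ∀ x, g (ψ x) = ψ x) :
    Nonempty (F →ₐ[K] w.adicCompletion K) := by
  classical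
  obtain ⟨θ, hθ1, ⟨θ₀, hθ₀⟩, hθW, hθH⟩ := exists_separating ψ W hD
  replace hθ₀ : ψ θ₀ = (θ : N) := hθ₀
  -- `θ₀` generates `F`
  have hgen : IntermediateField.adjoin K {θ₀} = ⊤ := by
    apply IntermediateField.map_injective ψ
    rw [IntermediateField.adjoin_map, Set.image_singleton, ← AlgHom.fieldRange_eq_map, hθ₀]
    refine le_antisymm ?_ ?_
    · rw [IntermediateField.adjoin_le_iff, Set.singleton_subset_iff]
      exact ⟨θ₀, hθ₀⟩
    · rw [← IsGalois.fixedField_fixingSubgroup (IntermediateField.adjoin K {(θ : N)})]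
      rintro y ⟨x, rfl⟩ ⟨g, hg⟩
      show g (ψ x) = ψ x
      exact hθH g ((IntermediateField.mem_fixingSubgroup_iff _ _).mp hg _
        (IntermediateField.mem_adjoin_simple_self K _)) x
  -- the minimal polynomial over the integers
  have hint : IsIntegral (𝓞 K) θ := Algebra.IsIntegral.isIntegral θ
  set Q : (𝓞 K)[X] := minpoly (𝓞 K) θ with hQ
  have hintN : IsIntegral (𝓞 K) (θ : N) := hint.algebraMap
  have hQK : Q.map (algebraMap (𝓞 K) K) = minpoly K (θ : N) := by
    rw [hQ, ← minpoly.algebraMap_eq (B' := N) (RingOfIntegers.coe_injective),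
      minpoly.isIntegrallyClosed_eq_field_fractions' K hintN]
  set f : N[X] := (minpoly K (θ : N)).map (algebraMap K N) with hf
  have hsplit : f.Splits := Normal.splits inferInstance _
  have hmon : f.Monic := (minpoly.monic (IsIntegral.of_finite K _)).map _
  have hnd : f.roots.Nodup := nodup_roots
    (Polynomial.Separable.map (show (minpoly K (θ : N)).Separable from
      Algebra.IsSeparable.isSeparable K (θ : N)))
  have hθroot : (θ : N) ∈ f.roots := by
    rw [mem_roots hmon.ne_zero, IsRoot, hf, eval_map, ← aeval_def, minpoly.aeval]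
  -- the other roots are integral and lie in `W`
  have hrest : ∀ r ∈ f.roots.erase (θ : N), ∃ r' : 𝓞 N, r' ∈ W ∧ (r' : N) = r := by
    intro r hr
    rw [hnd.mem_erase_iff] at hr
    obtain ⟨hne, hr⟩ := hr
    have hmin : minpoly K r = minpoly K (θ : N) := by
      refine (minpoly.eq_of_irreducible_of_monic (minpoly.irreducible (IsIntegral.of_finite K _)) ?_
        (minpoly.monic (IsIntegral.of_finite K _))).symm
      rw [mem_roots hmon.ne_zero, IsRoot, hf, eval_map] at hr
      rwa [aeval_def]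
    obtain ⟨g, hg⟩ := (Normal.minpoly_eq_iff_mem_orbit N).mp hmin
    refine ⟨g • θ, hθW g ?_, ?_⟩
    · intro h; exact hne (by rw [← hg]; exact h)
    · rw [← hg]; rfl
  set R : Multiset (𝓞 N) := (f.roots.erase (θ : N)).attach.map fun r => (hrest r.1 r.2).choose
    with hR
  have hRW : ∀ r ∈ R, r ∈ W := by
    intro r hr
    obtain ⟨a, -, rfl⟩ := Multiset.mem_map.mp hr
    exact (hrest a.1 a.2).choose_spec.1
  have hRmap : R.map (fun r : 𝓞 N => (r : N)) = f.roots.erase (θ : N) := by
    rw [hR, Multiset.map_map]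
    refine (Multiset.map_congr rfl fun r _ => ?_).trans (Multiset.attach_map_val _)
    exact (hrest r.1 r.2).choose_spec.2
  have hQN : Q.map (algebraMap (𝓞 K) (𝓞 N)) = (X - C θ) * (R.map fun r => X - C r).prod := by
    refine Polynomial.map_injective (algebraMap (𝓞 N) N) RingOfIntegers.coe_injective ?_
    rw [Polynomial.map_map, ← IsScalarTower.algebraMap_eq, IsScalarTower.algebraMap_eq (𝓞 K) K N,
      ← Polynomial.map_map, hQK, ← hf, Polynomial.map_mul, Polynomial.map_multiset_prod,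
      Multiset.map_map, Polynomial.map_sub, map_X, map_C]
    conv_lhs => rw [hsplit.eq_prod_roots_of_monic hmon, ← Multiset.cons_erase hθroot,
      Multiset.map_cons, Multiset.prod_cons, ← hRmap, Multiset.map_map]
    congr 2
    refine Multiset.map_congr rfl fun r _ => ?_
    simp
  -- reduction modulo `W`
  set q := Ideal.Quotient.mk W with hq
  have hred : (Q.map (algebraMap (𝓞 K) (𝓞 N))).map q = (X - C 1) * X ^ Multiset.card R := by
    rw [hQN, Polynomial.map_mul, Polynomial.map_sub, map_X, map_C,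
      Polynomial.map_multiset_prod, Multiset.map_map]
    congr 2
    · rw [show q θ = q 1 from Ideal.Quotient.eq.mpr hθ1, map_one]
    · rw [Multiset.map_congr rfl (g := fun _ => (X : (𝓞 N ⧸ W)[X])) (fun r hr => by
          simp [hq, Ideal.Quotient.eq_zero_iff_mem.mpr (hRW r hr)]),
        Multiset.map_const', Multiset.prod_replicate]
  have hev : ∀ P : (𝓞 K)[X],
      q (algebraMap (𝓞 K) (𝓞 N) (P.eval 1)) = ((P.map (algebraMap (𝓞 K) (𝓞 N))).map q).eval 1 := by
    intro P
    rw [Polynomial.map_map, eval_map, ← eval_one_map, eval_map, hom_eval₂, map_one]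
  have hmemW : ∀ a : 𝓞 K, q (algebraMap (𝓞 K) (𝓞 N) a) = 0 ↔ a ∈ w.asIdeal := by
    intro a
    rw [hq, Ideal.Quotient.eq_zero_iff_mem, Ideal.mem_of_liesOver W w.asIdeal]
  have h0 : Q.eval 1 ∈ w.asIdeal := by
    rw [← hmemW, hev, hred]; simp
  have h1 : Q.derivative.eval 1 ∉ w.asIdeal := by
    rw [← hmemW, hev, ← derivative_map, ← derivative_map, hred]
    simp
  -- Hensel
  set Pc : (w.adicCompletion K)[X] :=
    (minpoly K (θ : N)).map (algebraMap K (w.adicCompletion K)) with hPc
  have hval : ∀ a : 𝓞 K, Valued.v (algebraMap K (w.adicCompletion K) (algebraMap (𝓞 K) K a)) =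
      w.valuation K (algebraMap (𝓞 K) K a) := fun a => Groth.Agent.NFApprox.valued_algebraMap w _
  have hPQ : Pc = Q.map ((algebraMap K (w.adicCompletion K)).comp (algebraMap (𝓞 K) K)) := by
    rw [hPc, ← hQK, Polynomial.map_map]
  obtain ⟨r, hr⟩ := Groth.Agent.NFApprox.exists_root w Pc (fun i => by
      rw [hPQ, coeff_map, RingHom.comp_apply, hval]
      exact w.valuation_le_one _) 1 (by rw [map_one]) (by
      rw [hPQ, eval_map, eval₂_at_one, RingHom.comp_apply, hval, w.valuation_lt_one_iff_mem]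
      exact h0) (by
      rw [hPQ, derivative_map, eval_map, eval₂_at_one, RingHom.comp_apply, hval,
        w.valuation_eq_one_iff_notMem]
      exact h1)
  let pb := (IntermediateField.adjoin.powerBasis (K := K) (IsIntegral.of_finite K θ₀)).map
    ((IntermediateField.equivOfEq hgen).trans IntermediateField.topEquiv)
  have hpb : pb.gen = θ₀ := by simp [pb]
  refine ⟨pb.lift r ?_⟩
  rw [hpb, show minpoly K θ₀ = minpoly K (θ : N) by
    rw [← hθ₀, minpoly.algHom_eq ψ ψ.injective]]
  rw [hPc, IsRoot, eval_map] at hr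
  rwa [aeval_def]

end H1AffGal
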